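import Mathlib

set_option autoImplicit false

/-!
Counting with orbits of a group of permutations of a finite type: a set that is a union of orbits
whose sizes are all divisible by `d` has size divisible by `d`; a permutation of prime order
without fixed points in an invariant set.
-/

namespace Cfsg.Agent.Helper9.M22Sub

open scoped Pointwise

variable {X : Type*} [Fintype X] [DecidableEq X]

/-- the orbit of a point as a finite set. -/
noncomputable def orbF (K : Subgroup (Equiv.Perm X)) (c : X) : Finset X := by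
  classical exact Finset.univ.filter (fun x => ∃ g ∈ K, g c = x)

theorem mem_orbF {K : Subgroup (Equiv.Perm X)} {c x : X} : x ∈ orbF K c ↔ ∃ g ∈ K, g c = x := by
  simp [orbF]

theorem coe_orbF (K : Subgroup (Equiv.Perm X)) (c : X) :
    (orbF K c : Set X) = MulAction.orbit K c := by
  ext x
  simp only [Finset.mem_coe, mem_orbF, MulAction.mem_orbit_iff]
  constructor
  · rintro ⟨g, hg, rfl⟩
    exact ⟨⟨g, hg⟩, rfl⟩
  · rintro ⟨g, rfl⟩
    exact ⟨g.1, g.2, rfl⟩

theorem card_orbF (K : Subgroup (Equiv.Perm X)) (c : X) :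
    (orbF K c).card = (MulAction.orbit K c).ncard := by
  rw [← coe_orbF, Set.ncard_coe_finset]

theorem self_mem_orbF (K : Subgroup (Equiv.Perm X)) (c : X) : c ∈ orbF K c :=
  mem_orbF.mpr ⟨1, K.one_mem, rfl⟩

theorem orbF_eq_of_mem {K : Subgroup (Equiv.Perm X)} {c x : X} (hx : x ∈ orbF K c) :
    orbF K x = orbF K c := by
  obtain ⟨g, hg, rfl⟩ := mem_orbF.mp hx
  ext y
  simp only [mem_orbF]
  constructor
  · rintro ⟨h, hh, rfl⟩
    exact ⟨h * g, K.mul_mem hh hg, rfl⟩
  · rintro ⟨h, hh, rfl⟩
    refine ⟨h * g⁻¹, K.mul_mem hh (K.inv_mem hg), ?_⟩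
    simp

theorem smul_mem_orbF {K : Subgroup (Equiv.Perm X)} {c x : X} {g : Equiv.Perm X} (hg : g ∈ K)
    (hx : x ∈ orbF K c) : g x ∈ orbF K c := by
  obtain ⟨h, hh, rfl⟩ := mem_orbF.mp hx
  exact mem_orbF.mpr ⟨g * h, K.mul_mem hg hh, rfl⟩

/-- a set that is a union of orbits whose sizes are divisible by `d` has size divisible by `d`. -/
theorem dvd_card_of_orbits (K : Subgroup (Equiv.Perm X)) (d : ℕ) :
    ∀ (n : ℕ) (Y : Finset X), Y.card = n → (∀ g ∈ K, ∀ y ∈ Y, g y ∈ Y) →
      (∀ y ∈ Y, d ∣ (orbF K y).card) → d ∣ Y.card := by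
  intro n
  induction n using Nat.strong_induction_on with
  | _ n ih =>
    intro Y hn hinv hd
    rcases Y.eq_empty_or_nonempty with rfl | ⟨y, hy⟩
    · simp
    · have hsub : orbF K y ⊆ Y := by
        intro x hx
        obtain ⟨g, hg, rfl⟩ := mem_orbF.mp hx
        exact hinv g hg y hy
      have hcard : Y.card = (orbF K y).card + (Y \ orbF K y).card := by
        rw [Finset.card_sdiff_of_subset hsub]
        have := Finset.card_le_card hsub
        omega
      have hpos : 0 < (orbF K y).card := Finset.card_pos.mpr ⟨y, self_mem_orbF K y⟩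
      have hlt : (Y \ orbF K y).card < n := by omega
      have h2 : d ∣ (Y \ orbF K y).card := by
        apply ih _ hlt _ rfl
        · intro g hg x hx
          rw [Finset.mem_sdiff] at hx ⊢
          refine ⟨hinv g hg x hx.1, ?_⟩
          intro hcon
          apply hx.2
          have := smul_mem_orbF (K.inv_mem hg) hcon
          simpa using this
        · intro x hx
          exact hd x (Finset.mem_sdiff.mp hx).1
      rw [hcard]
      exact Nat.dvd_add (hd y hy) h2

omit [Fintype X] in
/-- a permutation of prime power order without fixed points in an invariant set. -/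
theorem dvd_card_of_no_fixed {f : Equiv.Perm X} {r : ℕ} [hr : Fact r.Prime] (hf : f ^ r = 1)
    (Y : Finset X) (hinv : ∀ x, x ∈ Y ↔ f x ∈ Y) (hfix : ∀ y ∈ Y, f y ≠ y) : r ∣ Y.card := by
  let σ : Equiv.Perm {x // x ∈ Y} := f.subtypePerm (fun x => (hinv x).symm)
  have hσ : σ ^ r ^ 1 = 1 := by
    rw [pow_one]
    ext x
    simp only [σ, Equiv.Perm.subtypePerm_pow, Equiv.Perm.subtypePerm_apply, hf]
    simp
  have h1 := Equiv.Perm.card_compl_support_modEq hσ
  have h2 : σ.support = Finset.univ := by
    ext x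
    simp only [Equiv.Perm.mem_support, Finset.mem_univ, iff_true, σ]
    intro hcon
    apply hfix x.1 x.2
    have := congrArg Subtype.val hcon
    simpa using this
  rw [h2, Finset.compl_univ, Finset.card_empty, Fintype.card_coe] at h1
  exact (Nat.modEq_zero_iff_dvd.mp h1.symm)

end Cfsg.Agent.Helper9.M22Sub
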