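import Mathlib
import Cfsg.Prelude.Def_Sporadic_a
import Cfsg.Agent.Helper9.Golay.ListTrans
import Cfsg.Agent.Helper9.Golay.SixPts
import Cfsg.Agent.Helper9.ConjTransport
import Cfsg.Agent.Helper9.M22Sub.Orbit

set_option autoImplicit false

/-!
The orders of the pointwise stabilizers of five and of four points in the group of the length-24
code.
-/

namespace Cfsg.Agent.Helper9.M22Sub

open Cfsg Cfsg.Agent.Helper9.Golay

theorem std5_nodup : (([4, 3, 2, 1, 0] : List ℕ).map idxPtN).Nodup := by decide

/-- the pointwise stabilizer of five points has order 48. -/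
theorem card_fix5 (l : List GolayPt) (hl : l.Nodup) (h5 : l.length = 5) :
    Nat.card (M24 ⊓ fixL l : Subgroup (Equiv.Perm GolayPt)) = 48 := by
  obtain ⟨g, hg, hmap⟩ := m24_map_list (([4, 3, 2, 1, 0] : List ℕ).map idxPtN) l std5_nodup hl
    (by rw [h5]; rfl) (by decide)
  rw [← card_K5]
  apply ConjT.card_of_conj_iff _ _ g
  intro h
  unfold K5
  simp only [Subgroup.mem_inf, mem_fixL]
  have hgi : g⁻¹ ∈ M24 := M24.inv_mem hg
  constructor
  · rintro ⟨h1, h2⟩
    refine ⟨M24.mul_mem (M24.mul_mem hgi h1) hg, ?_⟩
    intro b hb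
    have hgb : g b ∈ l := by
      rw [← hmap]
      exact List.mem_map_of_mem hb
    simp only [Equiv.Perm.coe_mul, Function.comp_apply]
    rw [h2 _ hgb]
    simp
  · rintro ⟨h1, h2⟩
    constructor
    · have := M24.mul_mem (M24.mul_mem hg h1) hgi
      have e : g * (g⁻¹ * h * g) * g⁻¹ = h := by group
      rw [e] at this
      exact this
    · intro b hb
      rw [← hmap, List.mem_map] at hb
      obtain ⟨b', hb', rfl⟩ := hb
      have := h2 b' hb'
      simp only [Equiv.Perm.coe_mul, Function.comp_apply] at this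
      have h3 := congrArg g this
      simpa using h3

theorem map_eq_self {α : Type*} {f : α → α} : ∀ {l : List α}, l.map f = l → ∀ b ∈ l, f b = b
  | [], _, b, hb => by simp at hb
  | c :: cs, h, b, hb => by
    rw [List.map_cons, List.cons.injEq] at h
    rcases List.mem_cons.mp hb with rfl | hb'
    · exact h.1
    · exact map_eq_self h.2 b hb'

theorem card_golay : Fintype.card GolayPt = 24 := by decide

/-- the pointwise stabilizer of four points has order 960. -/
theorem card_fix4 (l : List GolayPt) (hl : l.Nodup) (h4 : l.length = 4) :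
    Nat.card (M24 ⊓ fixL l : Subgroup (Equiv.Perm GolayPt)) = 960 := by
  have hex : ∃ a, a ∉ l := by
    by_contra hcon
    push Not at hcon
    have h1 : Finset.univ ⊆ l.toFinset := fun x _ => List.mem_toFinset.mpr (hcon x)
    have h2 := Finset.card_le_card h1
    rw [Finset.card_univ, card_golay] at h2
    have h3 := List.toFinset_card_le l
    omega
  obtain ⟨a, ha⟩ := hex
  have horb : orbF (M24 ⊓ fixL l) a = Finset.univ \ l.toFinset := by
    ext x
    simp only [mem_orbF, Subgroup.mem_inf, mem_fixL, Finset.mem_sdiff, Finset.mem_univ, true_and,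
      List.mem_toFinset]
    constructor
    · rintro ⟨g, ⟨-, hg⟩, rfl⟩ hcon
      apply ha
      have := hg _ hcon
      rw [g.injective this] at hcon
      exact hcon
    · intro hx
      obtain ⟨g, hg, hmap⟩ := m24_map_list (a :: l) (x :: l) (List.nodup_cons.mpr ⟨ha, hl⟩)
        (List.nodup_cons.mpr ⟨hx, hl⟩) (by simp) (by simp [h4])
      rw [List.map_cons, List.cons.injEq] at hmap
      exact ⟨g, ⟨hg, map_eq_self hmap.2⟩, hmap.1⟩
  have h1 := card_eq_orbit_mul (M24 ⊓ fixL l) a
  rw [← inf_fixL_cons, card_fix5 (a :: l) (List.nodup_cons.mpr ⟨ha, hl⟩) (by simp [h4]),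
    ← card_orbF, horb, Finset.card_sdiff_of_subset (Finset.subset_univ _), Finset.card_univ,
    card_golay, List.toFinset_card_of_nodup hl, h4] at h1
  exact h1

end Cfsg.Agent.Helper9.M22Sub
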