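import Mathlib
import Cfsg.Prelude.Def_Sporadic_a
import Cfsg.Agent.Helper9.M22Sub.Stab

set_option autoImplicit false

/-!
Fixed points of the elements of orders 5 and 11 of the group of the length-24 code.
-/

namespace Cfsg.Agent.Helper9.M22Sub

open Cfsg Cfsg.Agent.Helper9.Golay

/-- the set of fixed points. -/
def fixF (x : Equiv.Perm GolayPt) : Finset GolayPt := Finset.univ.filter (fun a => x a = a)

theorem mem_fixF {x : Equiv.Perm GolayPt} {a : GolayPt} : a ∈ fixF x ↔ x a = a := by
  simp [fixF]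

theorem pow48_of_fix5 {x : Equiv.Perm GolayPt} (hx : x ∈ M24) (l : List GolayPt) (hl : l.Nodup)
    (h5 : l.length = 5) (hfix : ∀ b ∈ l, x b = b) : x ^ 48 = 1 := by
  have hxK : x ∈ (M24 ⊓ fixL l : Subgroup (Equiv.Perm GolayPt)) :=
    Subgroup.mem_inf.mpr ⟨hx, mem_fixL.mpr hfix⟩
  have h1 : (⟨x, hxK⟩ : ↥(M24 ⊓ fixL l : Subgroup (Equiv.Perm GolayPt))) ^ Nat.card
      ↥(M24 ⊓ fixL l : Subgroup (Equiv.Perm GolayPt)) = 1 := pow_card_eq_one'
  rw [card_fix5 l hl h5] at h1
  have := congrArg Subtype.val h1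
  simpa using this

theorem card_fixF_le {x : Equiv.Perm GolayPt} (hx : x ∈ M24) {r : ℕ} (hord : orderOf x = r)
    (h48 : ¬ r ∣ 48) : (fixF x).card ≤ 4 := by
  by_contra hcon
  push Not at hcon
  obtain ⟨T, hT, hTc⟩ := Finset.exists_subset_card_eq (show 5 ≤ (fixF x).card by omega)
  have h1 := pow48_of_fix5 hx T.toList (Finset.nodup_toList T) (by rw [Finset.length_toList, hTc])
    (fun b hb => mem_fixF.mp (hT (Finset.mem_toList.mp hb)))
  apply h48
  rw [← hord]
  exact orderOf_dvd_of_pow_eq_one h1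

theorem card_fixF_modEq {x : Equiv.Perm GolayPt} {r : ℕ} [hr : Fact r.Prime] (hord : orderOf x = r) :
    (fixF x).card ≡ 24 [MOD r] := by
  have hx : x ^ r ^ 1 = 1 := by rw [pow_one, ← hord]; exact pow_orderOf_eq_one x
  have h1 := Equiv.Perm.card_compl_support_modEq hx
  rw [card_golay] at h1
  have h2 : x.supportᶜ = fixF x := by
    ext a
    simp [mem_fixF]
  rw [h2] at h1
  exact h1

/-- an element of order 11 fixing two points fixes no other point. -/
theorem not_fixed_of_order_eleven {p q : GolayPt} (hpq : p ≠ q) {x : Equiv.Perm GolayPt}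
    (hx : x ∈ M24) (hp : x p = p) (hq : x q = q) (hord : orderOf x = 11) {a : GolayPt}
    (hap : a ≠ p) (haq : a ≠ q) : x a ≠ a := by
  intro ha
  have : Fact (Nat.Prime 11) := ⟨by norm_num⟩
  have h1 := card_fixF_le hx hord (by norm_num)
  have h2 := card_fixF_modEq hord
  have h3 : ({p, q, a} : Finset GolayPt) ⊆ fixF x := by
    intro b hb
    simp only [Finset.mem_insert, Finset.mem_singleton] at hb
    rcases hb with rfl | rfl | rfl <;> exact mem_fixF.mpr ‹_›
  have h4 := Finset.card_le_card h3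
  have h5 : ({p, q, a} : Finset GolayPt).card = 3 := by
    rw [Finset.card_insert_of_notMem, Finset.card_insert_of_notMem, Finset.card_singleton]
    · simpa using haq.symm
    · simp only [Finset.mem_insert, Finset.mem_singleton, not_or]
      exact ⟨hpq, hap.symm⟩
  rw [h5] at h4
  unfold Nat.ModEq at h2
  generalize (fixF x).card = n at *
  interval_cases n <;> omega

/-- an element of order 5 fixing three points fixes exactly one more point. -/
theorem fixed_of_order_five {p q : GolayPt} (hpq : p ≠ q) {x : Equiv.Perm GolayPt}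
    (hx : x ∈ M24) (hp : x p = p) (hq : x q = q) (hord : orderOf x = 5) {a : GolayPt}
    (hap : a ≠ p) (haq : a ≠ q) (ha : x a = a) :
    ∃ b, b ≠ p ∧ b ≠ q ∧ b ≠ a ∧ x b = b ∧ ∀ c, x c = c → c = p ∨ c = q ∨ c = a ∨ c = b := by
  have : Fact (Nat.Prime 5) := ⟨by norm_num⟩
  have h1 := card_fixF_le hx hord (by norm_num)
  have h2 := card_fixF_modEq hord
  have h3 : ({p, q, a} : Finset GolayPt) ⊆ fixF x := by
    intro b hb
    simp only [Finset.mem_insert, Finset.mem_singleton] at hb
    rcases hb with rfl | rfl | rfl <;> exact mem_fixF.mpr ‹_›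
  have h5 : ({p, q, a} : Finset GolayPt).card = 3 := by
    rw [Finset.card_insert_of_notMem, Finset.card_insert_of_notMem, Finset.card_singleton]
    · simpa using haq.symm
    · simp only [Finset.mem_insert, Finset.mem_singleton, not_or]
      exact ⟨hpq, hap.symm⟩
  have h4 := Finset.card_le_card h3
  rw [h5] at h4
  have h6 : (fixF x).card = 4 := by
    unfold Nat.ModEq at h2
    generalize (fixF x).card = n at *
    interval_cases n <;> omega
  have h7 : (fixF x \ {p, q, a}).card = 1 := by
    rw [Finset.card_sdiff_of_subset h3, h6, h5]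
  obtain ⟨b, hb⟩ := Finset.card_eq_one.mp h7
  have hb' : b ∈ fixF x \ {p, q, a} := by rw [hb]; exact Finset.mem_singleton_self b
  simp only [Finset.mem_sdiff, Finset.mem_insert, Finset.mem_singleton, not_or, mem_fixF] at hb'
  refine ⟨b, hb'.2.1, hb'.2.2.1, hb'.2.2.2, hb'.1, ?_⟩
  intro c hc
  by_contra hcon
  push Not at hcon
  have : c ∈ fixF x \ {p, q, a} := by
    simp only [Finset.mem_sdiff, Finset.mem_insert, Finset.mem_singleton, not_or, mem_fixF]
    exact ⟨hc, hcon.1, hcon.2.1, hcon.2.2.1⟩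
  rw [hb, Finset.mem_singleton] at this
  exact hcon.2.2.2 this

end Cfsg.Agent.Helper9.M22Sub
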