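import Mathlib
import Cfsg.Prelude.Def_Sporadic_a
import Cfsg.Agent.Helper9.M22Sub.Elt

set_option autoImplicit false

/-!
The stabilizer of two points in the group of the length-24 code: the orbits of an element of
order 11 on the other 22 points, and its centralizer.
-/

namespace Cfsg.Agent.Helper9.M22Sub

open Cfsg Cfsg.Agent.Helper9.Golay

/-- the pointwise stabilizer of two points. -/
def G2 (p q : GolayPt) : Subgroup (Equiv.Perm GolayPt) := M24 ⊓ fixL [p, q]

theorem mem_G2 {p q : GolayPt} {g : Equiv.Perm GolayPt} :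
    g ∈ G2 p q ↔ g ∈ M24 ∧ g p = p ∧ g q = q := by
  unfold G2
  rw [Subgroup.mem_inf, mem_fixL]
  simp

/-- the other 22 points. -/
def Om (p q : GolayPt) : Finset GolayPt := Finset.univ.filter (fun a => a ≠ p ∧ a ≠ q)

theorem mem_Om {p q a : GolayPt} : a ∈ Om p q ↔ a ≠ p ∧ a ≠ q := by simp [Om]

theorem card_Om {p q : GolayPt} (hpq : p ≠ q) : (Om p q).card = 22 := by
  have h : Om p q = Finset.univ \ {p, q} := by
    ext a
    simp [mem_Om]
  rw [h, Finset.card_sdiff_of_subset (Finset.subset_univ _), Finset.card_univ, card_golay,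
    Finset.card_pair hpq]

theorem smul_mem_Om {p q : GolayPt} {g : Equiv.Perm GolayPt} (hg : g ∈ G2 p q) {a : GolayPt}
    (ha : a ∈ Om p q) : g a ∈ Om p q := by
  rw [mem_G2] at hg
  rw [mem_Om] at ha ⊢
  constructor
  · intro h
    apply ha.1
    apply g.injective
    rw [h, hg.2.1]
  · intro h
    apply ha.2
    apply g.injective
    rw [h, hg.2.2]

abbrev St (a : GolayPt) : Subgroup (Equiv.Perm GolayPt) :=
  MulAction.stabilizer (Equiv.Perm GolayPt) a

theorem mem_St {a : GolayPt} {g : Equiv.Perm GolayPt} : g ∈ St a ↔ g a = a := by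
  rw [MulAction.mem_stabilizer_iff, Equiv.Perm.smul_def]

section eleven

variable {p q : GolayPt} {g : Equiv.Perm GolayPt}

theorem zpowers_le_G2 (hg : g ∈ G2 p q) : Subgroup.zpowers g ≤ G2 p q := by
  rw [Subgroup.zpowers_le]
  exact hg

theorem zpow_fix_imp (hpq : p ≠ q) (hg : g ∈ G2 p q) (hord : orderOf g = 11) {a : GolayPt}
    (ha : a ∈ Om p q) (k : ℤ) (h : (g ^ k) a = a) : (11 : ℤ) ∣ k := by
  by_contra hk
  have h1 : g ^ (k % 11) = g ^ k := by
    have := zpow_mod_orderOf g k
    rw [hord] at this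
    exact this
  have h2 : 0 ≤ k % 11 := Int.emod_nonneg k (by norm_num)
  have h3 : k % 11 < 11 := Int.emod_lt_of_pos k (by norm_num)
  have h4 : k % 11 ≠ 0 := fun h0 => hk (Int.dvd_of_emod_eq_zero h0)
  obtain ⟨m, hm⟩ := Int.eq_ofNat_of_zero_le h2
  rw [hm] at h1 h3 h4
  rw [zpow_natCast] at h1
  have hm1 : 0 < m := by omega
  have hm2 : m < 11 := by omega
  have hcop : Nat.Coprime (orderOf g) m := by
    rw [hord]
    apply (Nat.Prime.coprime_iff_not_dvd (by norm_num)).mpr
    intro hd
    have := Nat.le_of_dvd hm1 hd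
    omega
  have h5 : orderOf (g ^ m) = 11 := by rw [hcop.orderOf_pow, hord]
  have h6 : g ^ m ∈ G2 p q := (G2 p q).pow_mem hg m
  rw [mem_G2] at h6
  rw [mem_Om] at ha
  apply not_fixed_of_order_eleven hpq h6.1 h6.2.1 h6.2.2 h5 ha.1 ha.2
  rw [h1]
  exact h

theorem card_orb_eleven (hpq : p ≠ q) (hg : g ∈ G2 p q) (hord : orderOf g = 11) {a : GolayPt}
    (ha : a ∈ Om p q) : (orbF (Subgroup.zpowers g) a).card = 11 := by
  have h1 := card_eq_orbit_mul (Subgroup.zpowers g) a
  rw [Nat.card_zpowers, hord, ← card_orbF] at h1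
  have h2 : (orbF (Subgroup.zpowers g) a).card ∣ 11 := ⟨_, h1⟩
  rcases (Nat.dvd_prime (by norm_num)).mp h2 with h3 | h3
  · exfalso
    obtain ⟨b, hb⟩ := Finset.card_eq_one.mp h3
    have e1 : a = b := by
      have := self_mem_orbF (Subgroup.zpowers g) a
      rw [hb, Finset.mem_singleton] at this
      exact this
    have e2 : g a = b := by
      have : g a ∈ orbF (Subgroup.zpowers g) a :=
        mem_orbF.mpr ⟨g, Subgroup.mem_zpowers g, rfl⟩
      rw [hb, Finset.mem_singleton] at this
      exact this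
    have := zpow_fix_imp hpq hg hord ha 1 (by rw [zpow_one, e2, e1])
    omega
  · exact h3

theorem orb_sub_Om (hg : g ∈ G2 p q) {a : GolayPt} (ha : a ∈ Om p q) :
    orbF (Subgroup.zpowers g) a ⊆ Om p q := by
  intro x hx
  obtain ⟨h, hh, rfl⟩ := mem_orbF.mp hx
  exact smul_mem_Om (zpowers_le_G2 hg hh) ha

theorem two_orbits (hpq : p ≠ q) (hg : g ∈ G2 p q) (hord : orderOf g = 11) {a y : GolayPt}
    (ha : a ∈ Om p q) (hy : y ∈ Om p q) (hya : y ∉ orbF (Subgroup.zpowers g) a) :
    ∀ x ∈ Om p q, x ∈ orbF (Subgroup.zpowers g) a ∨ x ∈ orbF (Subgroup.zpowers g) y := by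
  have hdis : Disjoint (orbF (Subgroup.zpowers g) a) (orbF (Subgroup.zpowers g) y) := by
    rw [Finset.disjoint_left]
    intro z hz1 hz2
    apply hya
    rw [← orbF_eq_of_mem hz1, orbF_eq_of_mem hz2]
    exact self_mem_orbF _ y
  have hsub : orbF (Subgroup.zpowers g) a ∪ orbF (Subgroup.zpowers g) y ⊆ Om p q :=
    Finset.union_subset (orb_sub_Om hg ha) (orb_sub_Om hg hy)
  have hcard : (orbF (Subgroup.zpowers g) a ∪ orbF (Subgroup.zpowers g) y).card = 22 := by
    rw [Finset.card_union_of_disjoint hdis, card_orb_eleven hpq hg hord ha,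
      card_orb_eleven hpq hg hord hy]
  have heq := Finset.eq_of_subset_of_card_le hsub (by rw [hcard, card_Om hpq])
  intro x hx
  rw [← heq, Finset.mem_union] at hx
  exact hx

/-- the centralizer of an element of order 11 has order 11 or 22. -/
theorem card_centralizer_dvd (hpq : p ≠ q) (hg : g ∈ G2 p q) (hord : orderOf g = 11) :
    Nat.card (G2 p q ⊓ Subgroup.centralizer ({g} : Set (Equiv.Perm GolayPt)) :
      Subgroup (Equiv.Perm GolayPt)) ∣ 22 := by
  set C : Subgroup (Equiv.Perm GolayPt) :=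
    G2 p q ⊓ Subgroup.centralizer ({g} : Set (Equiv.Perm GolayPt)) with hC
  have hOmne : (Om p q).Nonempty := by
    rw [← Finset.card_pos, card_Om hpq]
    norm_num
  obtain ⟨a, ha⟩ := hOmne
  have hcomm : ∀ c ∈ C, ∀ k : ℤ, ∀ x, c ((g ^ k) x) = (g ^ k) (c x) := by
    intro c hc k x
    have h1 : c ∈ Subgroup.centralizer ({g} : Set (Equiv.Perm GolayPt)) := (Subgroup.mem_inf.mp hc).2
    rw [Subgroup.mem_centralizer_iff] at h1
    have h2 : g * c = c * g := h1 g (Set.mem_singleton g)
    have h3 : Commute c g := h2.symm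
    have h4 : c * g ^ k = g ^ k * c := (h3.zpow_right k)
    have := congrArg (fun f : Equiv.Perm GolayPt => f x) h4
    simpa using this
  have htriv : (C ⊓ St a : Subgroup (Equiv.Perm GolayPt)) = ⊥ := by
    rw [Subgroup.eq_bot_iff_forall]
    intro c hc
    have hcC : c ∈ C := (Subgroup.mem_inf.mp hc).1
    have hca : c a = a := mem_St.mp (Subgroup.mem_inf.mp hc).2
    have hcG : c ∈ G2 p q := (Subgroup.mem_inf.mp hcC).1
    have hcG' := mem_G2.mp hcG
    have hfixorb : ∀ x ∈ orbF (Subgroup.zpowers g) a, c x = x := by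
      intro x hx
      obtain ⟨h, hh, rfl⟩ := mem_orbF.mp hx
      obtain ⟨k, rfl⟩ := Subgroup.mem_zpowers_iff.mp hh
      rw [hcomm c hcC k a, hca]
    -- five fixed points
    have ha' := mem_Om.mp ha
    have hga : g a ∈ Om p q := smul_mem_Om hg ha
    have hgga : g (g a) ∈ Om p q := smul_mem_Om hg hga
    have hga' := mem_Om.mp hga
    have hgga' := mem_Om.mp hgga
    have hne1 : g a ≠ a := by
      intro h
      have := zpow_fix_imp hpq hg hord ha 1 (by rw [zpow_one, h])
      omega
    have hne2 : g (g a) ≠ a := by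
      intro h
      have := zpow_fix_imp hpq hg hord ha 2 (by
        rw [show (2 : ℤ) = 1 + 1 by norm_num, zpow_add, zpow_one]
        exact h)
      omega
    have hne3 : g (g a) ≠ g a := fun h => hne1 (g.injective h)
    have h48 : c ^ 48 = 1 := by
      apply pow48_of_fix5 hcG'.1 [p, q, a, g a, g (g a)]
      · simp only [List.nodup_cons, List.mem_cons, List.not_mem_nil, or_false, not_or,
          List.nodup_nil, and_true, not_false_eq_true]
        exact ⟨⟨hpq, ha'.1.symm, hga'.1.symm, hgga'.1.symm⟩, ⟨ha'.2.symm, hga'.2.symm,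
          hgga'.2.symm⟩, ⟨hne1.symm, hne2.symm⟩, hne3.symm⟩
      · rfl
      · intro b hb
        simp only [List.mem_cons, List.not_mem_nil, or_false] at hb
        rcases hb with rfl | rfl | rfl | rfl | rfl
        · exact hcG'.2.1
        · exact hcG'.2.2
        · exact hca
        · exact hfixorb _ (mem_orbF.mpr ⟨g, Subgroup.mem_zpowers g, rfl⟩)
        · exact hfixorb _ (mem_orbF.mpr ⟨g * g, Subgroup.mul_mem _ (Subgroup.mem_zpowers g)
            (Subgroup.mem_zpowers g), rfl⟩)
    have h11 : c ^ 11 = 1 := by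
      apply Equiv.ext
      intro x
      rw [Equiv.Perm.one_apply]
      by_cases hxp : x = p
      · rw [hxp]
        have : c ^ 11 ∈ G2 p q := (G2 p q).pow_mem hcG 11
        exact (mem_G2.mp this).2.1
      by_cases hxq : x = q
      · rw [hxq]
        have : c ^ 11 ∈ G2 p q := (G2 p q).pow_mem hcG 11
        exact (mem_G2.mp this).2.2
      have hx : x ∈ Om p q := mem_Om.mpr ⟨hxp, hxq⟩
      by_cases hxa : x ∈ orbF (Subgroup.zpowers g) a
      · have : c ^ 11 ∈ St x := (St x).pow_mem (mem_St.mpr (hfixorb x hxa)) 11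
        exact mem_St.mp this
      · have hcx : c x ∈ Om p q := smul_mem_Om hcG hx
        rcases two_orbits hpq hg hord ha hx hxa (c x) hcx with h1 | h1
        · exfalso
          apply hxa
          have := hfixorb _ h1
          rw [← c.injective this]
          exact h1
        · obtain ⟨h, hh, hhx⟩ := mem_orbF.mp h1
          obtain ⟨k, rfl⟩ := Subgroup.mem_zpowers_iff.mp hh
          have hpow : ∀ n : ℕ, (c ^ n) x = (g ^ (k * n)) x := by
            intro n
            induction n with
            | zero => simp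
            | succ n ih =>
              rw [pow_succ', Equiv.Perm.mul_apply, ih, hcomm c hcC, ← hhx, ← Equiv.Perm.mul_apply,
                ← zpow_add]
              congr 2
              push_cast
              ring
          rw [hpow 11]
          have : g ^ (k * ((11 : ℕ) : ℤ)) = 1 := by
            rw [zpow_mul', zpow_natCast, ← hord, pow_orderOf_eq_one, one_zpow]
          rw [this, Equiv.Perm.one_apply]
    have h1 : orderOf c ∣ 48 := orderOf_dvd_of_pow_eq_one h48
    have h2 : orderOf c ∣ 11 := orderOf_dvd_of_pow_eq_one h11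
    have h3 : orderOf c ∣ Nat.gcd 48 11 := Nat.dvd_gcd h1 h2
    have h4 : orderOf c = 1 := by
      have : Nat.gcd 48 11 = 1 := by norm_num
      rw [this] at h3
      exact Nat.dvd_one.mp h3
    exact orderOf_eq_one_iff.mp h4
  have h1 := card_eq_orbit_mul C a
  rw [htriv, Subgroup.card_bot, mul_one, ← card_orbF] at h1
  have h2 : orbF C a ⊆ Om p q := by
    intro x hx
    obtain ⟨h, hh, rfl⟩ := mem_orbF.mp hx
    exact smul_mem_Om (Subgroup.mem_inf.mp hh).1 ha
  have h3 := Finset.card_le_card h2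
  rw [card_Om hpq, ← h1] at h3
  have hgC : g ∈ C := by
    rw [hC, Subgroup.mem_inf]
    refine ⟨hg, ?_⟩
    rw [Subgroup.mem_centralizer_iff]
    intro h hh
    rw [Set.mem_singleton_iff] at hh
    rw [hh]
  have h4 := Subgroup.orderOf_dvd_natCard _ hgC
  rw [hord] at h4
  obtain ⟨k, hk⟩ := h4
  rw [hk] at h3 ⊢
  have : k = 1 ∨ k = 2 := by
    have : k ≠ 0 := by
      rintro rfl
      have := Nat.card_pos (α := C)
      omega
    omega
  rcases this with rfl | rfl <;> norm_num

end eleven

end Cfsg.Agent.Helper9.M22Sub
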