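import Mathlib
import Cfsg.Prelude.Def_Sporadic_a
import Cfsg.Agent.Helper9.M22Sub.Cent

set_option autoImplicit false

/-!
A subgroup of order 7920 of the stabilizer of two points in the group of the length-24 code is
transitive on the other 22 points, and the stabilizer of a point in it has orbits of sizes
1, 6 and 15.
-/

namespace Cfsg.Agent.Helper9.M22Sub

open Cfsg Cfsg.Agent.Helper9.Golay

variable {p q : GolayPt} {H : Subgroup (Equiv.Perm GolayPt)}

theorem card_stab2_dvd (hpq : p ≠ q) (hH : H ≤ G2 p q) {a c : GolayPt} (ha : a ∈ Om p q)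
    (hc : c ∈ Om p q) (hac : a ≠ c) :
    Nat.card (H ⊓ St a ⊓ St c : Subgroup (Equiv.Perm GolayPt)) ∣ 960 := by
  have ha' := mem_Om.mp ha
  have hc' := mem_Om.mp hc
  have hnd : ([p, q, a, c] : List GolayPt).Nodup := by
    simp only [List.nodup_cons, List.mem_cons, List.not_mem_nil, or_false, not_or,
      List.nodup_nil, and_true, not_false_eq_true]
    exact ⟨⟨hpq, ha'.1.symm, hc'.1.symm⟩, ⟨ha'.2.symm, hc'.2.symm⟩, hac⟩
  rw [← card_fix4 [p, q, a, c] hnd rfl]
  apply Subgroup.card_dvd_of_le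
  intro g hg
  simp only [Subgroup.mem_inf, mem_St] at hg
  have hg2 := mem_G2.mp (hH hg.1.1)
  rw [Subgroup.mem_inf, mem_fixL]
  refine ⟨hg2.1, ?_⟩
  intro b hb
  simp only [List.mem_cons, List.not_mem_nil, or_false] at hb
  rcases hb with rfl | rfl | rfl | rfl
  · exact hg2.2.1
  · exact hg2.2.2
  · exact hg.1.2
  · exact hg.2

theorem card_stab3_dvd (hpq : p ≠ q) (hH : H ≤ G2 p q) {a c e : GolayPt} (ha : a ∈ Om p q)
    (hc : c ∈ Om p q) (he : e ∈ Om p q) (hac : a ≠ c) (hae : a ≠ e) (hce : c ≠ e) :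
    Nat.card (H ⊓ St a ⊓ St c ⊓ St e : Subgroup (Equiv.Perm GolayPt)) ∣ 48 := by
  have ha' := mem_Om.mp ha
  have hc' := mem_Om.mp hc
  have he' := mem_Om.mp he
  have hnd : ([p, q, a, c, e] : List GolayPt).Nodup := by
    simp only [List.nodup_cons, List.mem_cons, List.not_mem_nil, or_false, not_or,
      List.nodup_nil, and_true, not_false_eq_true]
    exact ⟨⟨hpq, ha'.1.symm, hc'.1.symm, he'.1.symm⟩, ⟨ha'.2.symm, hc'.2.symm, he'.2.symm⟩,
      ⟨hac, hae⟩, hce⟩
  rw [← card_fix5 [p, q, a, c, e] hnd rfl]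
  apply Subgroup.card_dvd_of_le
  intro g hg
  simp only [Subgroup.mem_inf, mem_St] at hg
  have hg2 := mem_G2.mp (hH hg.1.1.1)
  rw [Subgroup.mem_inf, mem_fixL]
  refine ⟨hg2.1, ?_⟩
  intro b hb
  simp only [List.mem_cons, List.not_mem_nil, or_false] at hb
  rcases hb with rfl | rfl | rfl | rfl | rfl
  · exact hg2.2.1
  · exact hg2.2.2
  · exact hg.1.1.2
  · exact hg.1.2
  · exact hg.2

theorem not_eleven_dvd_stab (hpq : p ≠ q) {K : Subgroup (Equiv.Perm GolayPt)} (hK : K ≤ G2 p q)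
    {a : GolayPt} (ha : a ∈ Om p q) :
    ¬ 11 ∣ Nat.card (K ⊓ St a : Subgroup (Equiv.Perm GolayPt)) := by
  intro hd
  have : Fact (Nat.Prime 11) := ⟨by norm_num⟩
  obtain ⟨x, hx⟩ := exists_prime_orderOf_dvd_card' 11 hd
  have hx' : orderOf (x : Equiv.Perm GolayPt) = 11 := by rw [Subgroup.orderOf_coe, hx]
  have hxm := x.2
  rw [Subgroup.mem_inf, mem_St] at hxm
  have hx2 := mem_G2.mp (hK hxm.1)
  have ha' := mem_Om.mp ha
  exact not_fixed_of_order_eleven hpq hx2.1 hx2.2.1 hx2.2.2 hx' ha'.1 ha'.2 hxm.2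

theorem exists_order_five {K : Subgroup (Equiv.Perm GolayPt)} (h5 : 5 ∣ Nat.card K) :
    ∃ f ∈ K, orderOf f = 5 := by
  have : Fact (Nat.Prime 5) := ⟨by norm_num⟩
  obtain ⟨x, hx⟩ := exists_prime_orderOf_dvd_card' 5 h5
  exact ⟨x.1, x.2, by rw [Subgroup.orderOf_coe, hx]⟩

theorem orbF_stab_sub (hH : H ≤ G2 p q) {a c : GolayPt} (hc : c ∈ Om p q) (hca : c ≠ a) :
    orbF (H ⊓ St a) c ⊆ (Om p q).erase a := by
  intro x hx
  obtain ⟨h, hh, rfl⟩ := mem_orbF.mp hx
  rw [Subgroup.mem_inf, mem_St] at hh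
  rw [Finset.mem_erase]
  refine ⟨?_, smul_mem_Om (hH hh.1) hc⟩
  intro hcon
  apply hca
  apply h.injective
  rw [hcon, hh.2]


theorem card_eq_orbF_mul (K : Subgroup (Equiv.Perm GolayPt)) (c : GolayPt) :
    Nat.card K = (orbF K c).card * Nat.card (K ⊓ St c : Subgroup (Equiv.Perm GolayPt)) := by
  rw [card_orbF]
  exact card_eq_orbit_mul K c

/-- a subgroup of order 7920 is transitive on the 22 points. -/
theorem transitive_of_card (hpq : p ≠ q) (hH : H ≤ G2 p q) (hcard : Nat.card H = 7920)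
    {a : GolayPt} (ha : a ∈ Om p q) :
    Nat.card (H ⊓ St a : Subgroup (Equiv.Perm GolayPt)) = 360 ∧ orbF H a = Om p q := by
  have h1 := card_eq_orbF_mul H a
  rw [hcard] at h1
  have hsub : orbF H a ⊆ Om p q := by
    intro x hx
    obtain ⟨h, hh, rfl⟩ := mem_orbF.mp hx
    exact smul_mem_Om (hH hh) ha
  have hle := Finset.card_le_card hsub
  rw [card_Om hpq] at hle
  have h11 := not_eleven_dvd_stab hpq hH ha
  have hs11 : 11 ∣ (orbF H a).card := by
    have : 11 ∣ (orbF H a).card * Nat.card (H ⊓ St a : Subgroup (Equiv.Perm GolayPt)) := by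
      rw [← h1]; norm_num
    rcases (Nat.Prime.dvd_mul (by norm_num)).mp this with h | h
    · exact h
    · exact absurd h h11
  have hpos : 0 < (orbF H a).card := Finset.card_pos.mpr ⟨a, self_mem_orbF H a⟩
  have hcases : (orbF H a).card = 11 ∨ (orbF H a).card = 22 := by
    obtain ⟨k, hk⟩ := hs11
    omega
  rcases hcases with hs | hs
  · exfalso
    rw [hs] at h1
    have hm : Nat.card (H ⊓ St a : Subgroup (Equiv.Perm GolayPt)) = 720 := by omega
    have hYc : (Om p q \ orbF H a).card = 11 := by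
      rw [Finset.card_sdiff_of_subset hsub, card_Om hpq, hs]
    have h3 : 3 ∣ (Om p q \ orbF H a).card := by
      apply dvd_card_of_orbits (H ⊓ St a) 3 _ _ rfl
      · intro g hg y hy
        rw [Finset.mem_sdiff] at hy ⊢
        have hgH : g ∈ H := (Subgroup.mem_inf.mp hg).1
        refine ⟨smul_mem_Om (hH hgH) hy.1, ?_⟩
        intro hcon
        apply hy.2
        have := smul_mem_orbF (H.inv_mem hgH) hcon
        simpa using this
      · intro y hy
        rw [Finset.mem_sdiff] at hy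
        have hay : a ≠ y := by
          rintro rfl
          exact hy.2 (self_mem_orbF H a)
        have h4 := card_eq_orbF_mul (H ⊓ St a) y
        rw [hm] at h4
        have h5 := card_stab2_dvd hpq hH ha hy.1 hay
        generalize Nat.card (H ⊓ St a ⊓ St y : Subgroup (Equiv.Perm GolayPt)) = m at h4 h5
        generalize (orbF (H ⊓ St a) y).card = t at h4
        have h6 : m ∣ 720 := ⟨t, by rw [h4, mul_comm]⟩
        have h7 : m ∣ Nat.gcd 960 720 := Nat.dvd_gcd h5 h6
        have h8 : Nat.gcd 960 720 = 240 := by norm_num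
        rw [h8] at h7
        obtain ⟨k, hk⟩ := h7
        have hmpos : 0 < m := by
          rcases Nat.eq_zero_or_pos m with h0 | h0
          · rw [h0] at hk; omega
          · exact h0
        refine ⟨k, ?_⟩
        have : t * m = 3 * k * m := by
          rw [← h4]
          calc 720 = 3 * 240 := by norm_num
            _ = 3 * (m * k) := by rw [hk]
            _ = 3 * k * m := by ring
        exact Nat.eq_of_mul_eq_mul_right hmpos this
    rw [hYc] at h3
    omega
  · rw [hs] at h1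
    refine ⟨by omega, ?_⟩
    exact Finset.eq_of_subset_of_card_le hsub (by rw [card_Om hpq, hs])

/-- the orbits of the stabilizer of a point. -/
theorem rank_three (hpq : p ≠ q) (hH : H ≤ G2 p q) (hcard : Nat.card H = 7920)
    {a : GolayPt} (ha : a ∈ Om p q) :
    ∃ Δ : Finset GolayPt, Δ ⊆ (Om p q).erase a ∧ Δ.card = 6 ∧
      (∀ c ∈ Δ, Nat.card (H ⊓ St a ⊓ St c : Subgroup (Equiv.Perm GolayPt)) = 60) ∧
      (∀ c ∈ (Om p q).erase a, c ∉ Δ →
        Nat.card (H ⊓ St a ⊓ St c : Subgroup (Equiv.Perm GolayPt)) = 24 ∧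
        ∀ c' ∈ (Om p q).erase a, c' ∉ Δ → ∃ h ∈ H ⊓ St a, h c = c') := by
  obtain ⟨hm, -⟩ := transitive_of_card hpq hH hcard ha
  obtain ⟨f, hf, hford⟩ := exists_order_five (K := H ⊓ St a) (by rw [hm]; norm_num)
  have hfH : f ∈ H := (Subgroup.mem_inf.mp hf).1
  have hfa : f a = a := mem_St.mp (Subgroup.mem_inf.mp hf).2
  have hf2 := mem_G2.mp (hH hfH)
  have ha' := mem_Om.mp ha
  obtain ⟨b, hbp, hbq, hba, hfb, hfix⟩ :=
    fixed_of_order_five hpq hf2.1 hf2.2.1 hf2.2.2 hford ha'.1 ha'.2 hfa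
  have hb : b ∈ Om p q := mem_Om.mpr ⟨hbp, hbq⟩
  have hf5 : f ^ 5 = 1 := by rw [← hford]; exact pow_orderOf_eq_one f
  have : Fact (Nat.Prime 5) := ⟨by norm_num⟩
  have hfi : f⁻¹ ∈ H ⊓ St a := Subgroup.inv_mem _ hf
  -- invariance of orbits under `f`
  have hinvorb : ∀ c x, x ∈ orbF (H ⊓ St a) c ↔ f x ∈ orbF (H ⊓ St a) c := by
    intro c x
    constructor
    · exact smul_mem_orbF hf
    · intro h
      have := smul_mem_orbF hfi h
      simpa using this
  -- sizes of the orbits are multiples of three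
  have hthree : ∀ c ∈ (Om p q).erase a, ∃ k, (orbF (H ⊓ St a) c).card = 3 * k ∧
      120 = Nat.card (H ⊓ St a ⊓ St c : Subgroup (Equiv.Perm GolayPt)) * k := by
    intro c hc
    rw [Finset.mem_erase] at hc
    have h4 := card_eq_orbF_mul (H ⊓ St a) c
    rw [hm] at h4
    have h5 := card_stab2_dvd hpq hH ha hc.2 hc.1.symm
    generalize Nat.card (H ⊓ St a ⊓ St c : Subgroup (Equiv.Perm GolayPt)) = m at h4 h5 ⊢
    generalize (orbF (H ⊓ St a) c).card = t at h4 ⊢
    have h6 : m ∣ 360 := ⟨t, by rw [h4, mul_comm]⟩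
    have h7 : m ∣ Nat.gcd 960 360 := Nat.dvd_gcd h5 h6
    have h8 : Nat.gcd 960 360 = 120 := by norm_num
    rw [h8] at h7
    obtain ⟨k, hk⟩ := h7
    have hmpos : 0 < m := by
      rcases Nat.eq_zero_or_pos m with h0 | h0
      · rw [h0] at hk; omega
      · exact h0
    refine ⟨k, ?_, hk⟩
    have : t * m = 3 * k * m := by
      rw [← h4]
      calc 360 = 3 * 120 := by norm_num
        _ = 3 * (m * k) := by rw [hk]
        _ = 3 * k * m := by ring
    exact Nat.eq_of_mul_eq_mul_right hmpos this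
  have hbmem : b ∈ (Om p q).erase a := Finset.mem_erase.mpr ⟨hba, hb⟩
  have hΔsub := orbF_stab_sub hH hb hba
  -- the orbit of `b` has six points
  have hΔ1 : 5 ∣ ((orbF (H ⊓ St a) b).erase b).card := by
    apply dvd_card_of_no_fixed hf5
    · intro x
      rw [Finset.mem_erase, Finset.mem_erase, ← hinvorb b x]
      constructor
      · rintro ⟨h1, h2⟩
        refine ⟨?_, h2⟩
        intro hcon
        apply h1
        apply f.injective
        rw [hcon, hfb]
      · rintro ⟨h1, h2⟩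
        refine ⟨?_, h2⟩
        rintro rfl
        exact h1 hfb
    · intro y hy hfy
      rw [Finset.mem_erase] at hy
      have hy2 := Finset.mem_erase.mp (hΔsub hy.2)
      have hy3 := mem_Om.mp hy2.2
      rcases hfix y hfy with h | h | h | h
      · exact hy3.1 h
      · exact hy3.2 h
      · exact hy2.1 h
      · exact hy.1 h
  have hΔcard : (orbF (H ⊓ St a) b).card = 6 := by
    obtain ⟨k, hk1, hk2⟩ := hthree b hbmem
    have h1 : ((orbF (H ⊓ St a) b).erase b).card = (orbF (H ⊓ St a) b).card - 1 :=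
      Finset.card_erase_of_mem (self_mem_orbF _ b)
    rw [h1] at hΔ1
    have h2 := Finset.card_le_card hΔsub
    rw [Finset.card_erase_of_mem ha, card_Om hpq] at h2
    have h3 : 0 < (orbF (H ⊓ St a) b).card := Finset.card_pos.mpr ⟨b, self_mem_orbF _ b⟩
    have h4 : k ∣ 120 := ⟨_, by rw [hk2, mul_comm]⟩
    rw [hk1] at hΔ1 h2 h3 ⊢
    have hk7 : k ≤ 7 := by omega
    interval_cases k <;> omega
  have hmΔ : ∀ c ∈ orbF (H ⊓ St a) b,
      Nat.card (H ⊓ St a ⊓ St c : Subgroup (Equiv.Perm GolayPt)) = 60 := by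
    intro c hc
    have h4 := card_eq_orbF_mul (H ⊓ St a) c
    rw [hm, orbF_eq_of_mem hc, hΔcard] at h4
    omega
  refine ⟨orbF (H ⊓ St a) b, hΔsub, hΔcard, hmΔ, ?_⟩
  -- the other orbit
  have hY2 : ∀ c ∈ (Om p q).erase a, c ∉ orbF (H ⊓ St a) b →
      orbF (H ⊓ St a) c ⊆ (Om p q).erase a \ orbF (H ⊓ St a) b := by
    intro c hc hcΔ x hx
    have hc' := Finset.mem_erase.mp hc
    rw [Finset.mem_sdiff]
    refine ⟨orbF_stab_sub hH hc'.2 hc'.1 hx, ?_⟩
    intro hcon
    apply hcΔ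
    obtain ⟨h, hh, rfl⟩ := mem_orbF.mp hx
    have := smul_mem_orbF (Subgroup.inv_mem _ hh) hcon
    simpa using this
  have hY2card : ((Om p q).erase a \ orbF (H ⊓ St a) b).card = 15 := by
    rw [Finset.card_sdiff_of_subset hΔsub, Finset.card_erase_of_mem ha, card_Om hpq, hΔcard]
  have horb15 : ∀ c ∈ (Om p q).erase a, c ∉ orbF (H ⊓ St a) b →
      orbF (H ⊓ St a) c = (Om p q).erase a \ orbF (H ⊓ St a) b := by
    intro c hc hcΔ
    have hsub := hY2 c hc hcΔ
    apply Finset.eq_of_subset_of_card_le hsub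
    rw [hY2card]
    obtain ⟨k, hk1, -⟩ := hthree c hc
    have h5 : 5 ∣ (orbF (H ⊓ St a) c).card := by
      apply dvd_card_of_no_fixed hf5 _ (hinvorb c)
      intro y hy hfy
      have hy1 := Finset.mem_sdiff.mp (hsub hy)
      have hy2 := Finset.mem_erase.mp hy1.1
      have hy3 := mem_Om.mp hy2.2
      rcases hfix y hfy with h | h | h | h
      · exact hy3.1 h
      · exact hy3.2 h
      · exact hy2.1 h
      · apply hy1.2
        rw [h]
        exact self_mem_orbF _ b
    have hpos : 0 < (orbF (H ⊓ St a) c).card := Finset.card_pos.mpr ⟨c, self_mem_orbF _ c⟩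
    rw [hk1] at h5 hpos ⊢
    omega
  intro c hc hcΔ
  constructor
  · have h4 := card_eq_orbF_mul (H ⊓ St a) c
    rw [hm, horb15 c hc hcΔ, hY2card] at h4
    omega
  · intro c' hc' hc'Δ
    have : c' ∈ orbF (H ⊓ St a) c := by
      rw [horb15 c hc hcΔ, Finset.mem_sdiff]
      exact ⟨hc', hc'Δ⟩
    exact mem_orbF.mp this

end Cfsg.Agent.Helper9.M22Sub
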