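import Mathlib

set_option autoImplicit false

/-!
Sylow's theorem and the embedding of the normalizer modulo the centralizer into the automorphism
group, for a group whose Sylow 11-subgroups have order 11.
-/

namespace Cfsg.Agent.Helper9.M22Sub

variable {K : Type*} [Group K] [Finite K]

theorem sylow_eleven (n : ℕ) (hn : Nat.card K = n) (h11 : 11 ∣ n) (h121 : ¬ 121 ∣ n)
    (hC : ∀ g : K, orderOf g = 11 → Nat.card (Subgroup.centralizer ({g} : Set K)) ∣ 22) :
    ∃ g : K, orderOf g = 11 ∧ ∃ c j m : ℕ,
      Nat.card (Subgroup.centralizer ({g} : Set K)) = c ∧ (c = 11 ∨ c = 22) ∧ j ∣ 10 ∧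
      Nat.card (Subgroup.normalizer ((Subgroup.zpowers g : Subgroup K) : Set K)) = c * j ∧
      c * j * m = n ∧ m % 11 = 1 := by
  have hp : Fact (Nat.Prime 11) := ⟨by norm_num⟩
  have hG0 : Nat.card K ≠ 0 := Nat.card_pos.ne'
  have h1 : 1 ≤ (Nat.card K).factorization 11 := by
    apply (hp.out.pow_dvd_iff_le_factorization hG0).mp
    rw [hn, pow_one]
    exact h11
  have h2 : ¬ 2 ≤ (Nat.card K).factorization 11 := by
    intro h
    have := (hp.out.pow_dvd_iff_le_factorization hG0).mpr h
    rw [hn] at this
    exact h121 this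
  have hfac : (Nat.card K).factorization 11 = 1 := by omega
  obtain ⟨P⟩ : Nonempty (Sylow 11 K) := inferInstance
  have hPc : Nat.card (P : Subgroup K) = 11 := by
    rw [Sylow.card_eq_multiplicity, hfac, pow_one]
  have hcyc : IsCyclic (P : Subgroup K) := isCyclic_of_prime_card hPc
  obtain ⟨g0, hg0⟩ := hcyc.exists_generator
  have hPz : (P : Subgroup K) = Subgroup.zpowers (g0 : K) := by
    ext x
    constructor
    · intro hx
      have := hg0 ⟨x, hx⟩
      rw [Subgroup.mem_zpowers_iff] at this ⊢
      obtain ⟨k, hk⟩ := this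
      exact ⟨k, by simpa using congrArg Subtype.val hk⟩
    · intro hx
      rw [Subgroup.mem_zpowers_iff] at hx
      obtain ⟨k, rfl⟩ := hx
      exact (P : Subgroup K).zpow_mem g0.2 k
  have hord : orderOf (g0 : K) = 11 := by
    rw [← Nat.card_zpowers, ← hPz, hPc]
  refine ⟨(g0 : K), hord, ?_⟩
  set S : Subgroup K := Subgroup.zpowers (g0 : K) with hS
  have hSc : Nat.card S = 11 := by rw [hS, Nat.card_zpowers, hord]
  have hcent : Subgroup.centralizer ((S : Subgroup K) : Set K)
      = Subgroup.centralizer ({(g0 : K)} : Set K) := by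
    rw [hS, Subgroup.zpowers_eq_closure, Subgroup.centralizer_closure]
  have hidx : Nat.card (Sylow 11 K) = (Subgroup.normalizer ((P : Subgroup K) : Set K)).index :=
    P.card_eq_index_normalizer
  rw [hPz] at hidx
  have hmod : Nat.card (Sylow 11 K) % 11 = 1 := card_sylow_modEq_one 11 K
  have hNi := Subgroup.card_mul_index (Subgroup.normalizer ((S : Subgroup K) : Set K))
  have hker := Subgroup.card_mul_index (S.normalizerMonoidHom).ker
  rw [Subgroup.index_ker, Subgroup.normalizerMonoidHom_ker] at hker
  have hkc : Nat.card ((Subgroup.centralizer (S : Set K)).subgroupOf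
      (Subgroup.normalizer (S : Set K))) = Nat.card (Subgroup.centralizer ({(g0 : K)} : Set K)) := by
    rw [← hcent]
    exact Nat.card_congr
      (Subgroup.subgroupOfEquivOfLe (Subgroup.centralizer_le_normalizer _)).toEquiv
  rw [hkc] at hker
  have hcycS : IsCyclic S := isCyclic_of_prime_card hSc
  have hdvd : Nat.card (S.normalizerMonoidHom).range ∣ 10 := by
    have := Subgroup.card_subgroup_dvd_card (S.normalizerMonoidHom).range
    rw [IsCyclic.card_mulAut, hSc, Nat.totient_prime hp.out] at this
    exact this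
  have hc22 := hC (g0 : K) hord
  have hc11 : 11 ∣ Nat.card (Subgroup.centralizer ({(g0 : K)} : Set K)) := by
    have hmem : (g0 : K) ∈ Subgroup.centralizer ({(g0 : K)} : Set K) := by
      rw [Subgroup.mem_centralizer_iff]
      intro h hh
      rw [Set.mem_singleton_iff] at hh
      rw [hh]
    have := Subgroup.orderOf_dvd_natCard _ hmem
    rw [hord] at this
    exact this
  refine ⟨Nat.card (Subgroup.centralizer ({(g0 : K)} : Set K)),
    Nat.card (S.normalizerMonoidHom).range, Nat.card (Sylow 11 K), rfl, ?_, hdvd, hker.symm, ?_,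
    hmod⟩
  · have hle := Nat.le_of_dvd (by norm_num) hc22
    generalize Nat.card (Subgroup.centralizer ({(g0 : K)} : Set K)) = c at *
    obtain ⟨k, hk⟩ := hc11
    subst hk
    have : k = 1 ∨ k = 2 := by
      have : k ≤ 2 := by omega
      have : k ≠ 0 := by
        rintro rfl
        simp at hc22
      omega
    omega
  · rw [hker, hidx, hNi, hn]

end Cfsg.Agent.Helper9.M22Sub
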