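import Mathlib
import Cfsg.Prelude.Def_Sporadic_a
import Cfsg.Agent.Helper9.M22Sub.Rank
import Cfsg.Agent.Helper9.M22Sub.Sylow

set_option autoImplicit false

/-!
The relation on the 22 points given by the two-point stabilizers of order 60 in a subgroup of
order 7920, and the normalizer of a Sylow 11-subgroup.
-/

namespace Cfsg.Agent.Helper9.M22Sub

open Cfsg Cfsg.Agent.Helper9.Golay

/-- ten distinct residues. -/
theorem zmod11_nodup : ∀ r j : ZMod 11, r ^ 5 = 1 → r ≠ 1 → j ≠ 0 →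
    ([j, r * j, r * (r * j), r * (r * (r * j)), r * (r * (r * (r * j))),
      -j, -(r * j), -(r * (r * j)), -(r * (r * (r * j))), -(r * (r * (r * (r * j))))] :
        List (ZMod 11)).Nodup := by
  decide

theorem zmod11_orbit (J : Finset (ZMod 11)) (r : ZMod 11) (hr5 : r ^ 5 = 1) (hr1 : r ≠ 1)
    (h0 : (0 : ZMod 11) ∉ J) (hneg : ∀ j ∈ J, -j ∈ J) (hmul : ∀ j ∈ J, r * j ∈ J)
    (hne : J.Nonempty) : 10 ≤ J.card := by
  obtain ⟨j, hj⟩ := hne
  have hj0 : j ≠ 0 := by
    rintro rfl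
    exact h0 hj
  have hnd := zmod11_nodup r j hr5 hr1 hj0
  have h1 := hmul j hj
  have h2 := hmul _ h1
  have h3 := hmul _ h2
  have h4 := hmul _ h3
  have hsub : ([j, r * j, r * (r * j), r * (r * (r * j)), r * (r * (r * (r * j))),
      -j, -(r * j), -(r * (r * j)), -(r * (r * (r * j))), -(r * (r * (r * (r * j))))] :
        List (ZMod 11)).toFinset ⊆ J := by
    intro x hx
    simp only [List.toFinset_cons, List.toFinset_nil, Finset.mem_insert,
      insert_empty_eq] at hx
    rcases hx with rfl | rfl | rfl | rfl | rfl | rfl | rfl | rfl | rfl | hx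
    · exact hj
    · exact h1
    · exact h2
    · exact h3
    · exact h4
    · exact hneg _ hj
    · exact hneg _ h1
    · exact hneg _ h2
    · exact hneg _ h3
    · rw [Finset.mem_singleton] at hx
      rw [hx]
      exact hneg _ h4
  have := Finset.card_le_card hsub
  rw [List.toFinset_card_of_nodup hnd] at this
  exact this

variable {p q : GolayPt} {H : Subgroup (Equiv.Perm GolayPt)}

/-- the two-point stabilizer has order 60. -/
def adj (H : Subgroup (Equiv.Perm GolayPt)) (a c : GolayPt) : Prop :=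
  Nat.card (H ⊓ St a ⊓ St c : Subgroup (Equiv.Perm GolayPt)) = 60

theorem adj_symm {a c : GolayPt} (h : adj H a c) : adj H c a := by
  unfold adj at h ⊢
  rw [inf_right_comm]
  exact h

theorem adj_smul {a c : GolayPt} {h : Equiv.Perm GolayPt} (hh : h ∈ H) (hadj : adj H a c) :
    adj H (h a) (h c) := by
  unfold adj at hadj ⊢
  rw [← hadj]
  apply ConjT.card_of_conj_iff _ _ h
  intro g
  simp only [Subgroup.mem_inf, mem_St, Equiv.Perm.coe_mul, Function.comp_apply]
  have hhi : h⁻¹ ∈ H := H.inv_mem hh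
  constructor
  · rintro ⟨⟨h1, h2⟩, h3⟩
    refine ⟨⟨H.mul_mem (H.mul_mem hhi h1) hh, ?_⟩, ?_⟩
    · rw [h2]; simp
    · rw [h3]; simp
  · rintro ⟨⟨h1, h2⟩, h3⟩
    refine ⟨⟨?_, ?_⟩, ?_⟩
    · have := H.mul_mem (H.mul_mem hh h1) hhi
      have e : h * (h⁻¹ * g * h) * h⁻¹ = g := by group
      rw [e] at this
      exact this
    · have := congrArg h h2
      simpa using this
    · have := congrArg h h3
      simpa using this

/-- the neighbours of a point. -/
theorem exists_nbrs (hpq : p ≠ q) (hH : H ≤ G2 p q) (hcard : Nat.card H = 7920)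
    {a : GolayPt} (ha : a ∈ Om p q) :
    ∃ Δ : Finset GolayPt, Δ ⊆ (Om p q).erase a ∧ Δ.card = 6 ∧ (∀ c, adj H a c ↔ c ∈ Δ) ∧
      ∀ c ∈ (Om p q).erase a, c ∉ Δ → ∀ c' ∈ (Om p q).erase a, c' ∉ Δ →
        ∃ h ∈ H ⊓ St a, h c = c' := by
  obtain ⟨Δ, hsub, hc6, h60, h24⟩ := rank_three hpq hH hcard ha
  obtain ⟨hm, -⟩ := transitive_of_card hpq hH hcard ha
  refine ⟨Δ, hsub, hc6, ?_, fun c hc hcΔ => (h24 c hc hcΔ).2⟩
  intro c
  constructor
  · intro hadj
    unfold adj at hadj
    by_contra hcΔ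
    have hle : ∀ x : GolayPt, (∀ g ∈ H, g x = x) →
        (H ⊓ St a ⊓ St x : Subgroup (Equiv.Perm GolayPt)) = H ⊓ St a := by
      intro x hx
      apply le_antisymm inf_le_left
      intro g hg
      exact Subgroup.mem_inf.mpr ⟨hg, mem_St.mpr (hx g (Subgroup.mem_inf.mp hg).1)⟩
    by_cases hcp : c = p
    · rw [hcp, hle p (fun g hg => (mem_G2.mp (hH hg)).2.1), hm] at hadj
      omega
    by_cases hcq : c = q
    · rw [hcq, hle q (fun g hg => (mem_G2.mp (hH hg)).2.2), hm] at hadj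
      omega
    by_cases hca : c = a
    · rw [hca, inf_assoc, inf_idem, hm] at hadj
      omega
    have hc : c ∈ (Om p q).erase a :=
      Finset.mem_erase.mpr ⟨hca, mem_Om.mpr ⟨hcp, hcq⟩⟩
    rw [(h24 c hc hcΔ).1] at hadj
    omega
  · exact h60 c

/-- the centralizer of an element of order 11 in a subgroup. -/
theorem cent_dvd_sub (hpq : p ≠ q) (hH : H ≤ G2 p q) :
    ∀ x : ↥H, orderOf x = 11 → Nat.card (Subgroup.centralizer ({x} : Set ↥H)) ∣ 22 := by
  intro x hx
  have hx' : orderOf (x : Equiv.Perm GolayPt) = 11 := by rw [Subgroup.orderOf_coe, hx]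
  have h1 := card_centralizer_dvd hpq (hH x.2) hx'
  refine dvd_trans ?_ h1
  rw [← Subgroup.card_map_of_injective (Subgroup.subtype_injective H)]
  apply Subgroup.card_dvd_of_le
  intro y hy
  obtain ⟨z, hz, rfl⟩ := Subgroup.mem_map.mp hy
  rw [Subgroup.mem_inf]
  refine ⟨hH z.2, ?_⟩
  rw [Subgroup.mem_centralizer_iff] at hz ⊢
  intro w hw
  rw [Set.mem_singleton_iff] at hw
  rw [hw]
  have := hz x (Set.mem_singleton x)
  have := congrArg Subtype.val this
  simpa using this

/-- the normalizer of a Sylow 11-subgroup of a subgroup of order 7920. -/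
theorem exists_normalizer (hpq : p ≠ q) (hH : H ≤ G2 p q) (hcard : Nat.card H = 7920) :
    ∃ g ∈ H, orderOf g = 11 ∧ ∃ N : Subgroup (Equiv.Perm GolayPt), N ≤ H ∧ Nat.card N = 55 ∧
      (∀ f ∈ N, ∃ k : ℤ, f * g * f⁻¹ = g ^ k) ∧ ∀ f ∈ N, orderOf f = 5 → f * g ≠ g * f := by
  have hfin : Finite H := Nat.finite_of_card_ne_zero (by rw [hcard]; norm_num)
  have hC := cent_dvd_sub hpq hH
  obtain ⟨g, hg, c, j, m, hc, hc2, hj, hN, hcjm, hm⟩ :=
    sylow_eleven 7920 hcard (by norm_num) (by norm_num) hC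
  have hj10 : j ≤ 10 := Nat.le_of_dvd (by norm_num) hj
  have hcj : c = 11 ∧ j = 5 := by
    rcases hc2 with rfl | rfl <;> interval_cases j <;> omega
  obtain ⟨rfl, rfl⟩ := hcj
  refine ⟨(g : Equiv.Perm GolayPt), g.2, by rw [Subgroup.orderOf_coe, hg],
    (Subgroup.normalizer ((Subgroup.zpowers g : Subgroup ↥H) : Set ↥H)).map H.subtype, ?_, ?_, ?_,
    ?_⟩
  · intro y hy
    obtain ⟨z, -, rfl⟩ := Subgroup.mem_map.mp hy
    exact z.2
  · rw [Subgroup.card_map_of_injective (Subgroup.subtype_injective H), hN]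
  · intro f hf
    obtain ⟨z, hz, rfl⟩ := Subgroup.mem_map.mp hf
    rw [Subgroup.mem_normalizer_iff] at hz
    have h1 := (hz g).mp (Subgroup.mem_zpowers g)
    obtain ⟨k, hk⟩ := Subgroup.mem_zpowers_iff.mp h1
    refine ⟨k, ?_⟩
    have := congrArg Subtype.val hk
    simp only [Subgroup.coe_zpow, Subgroup.coe_mul, Subgroup.coe_inv] at this
    exact this.symm
  · intro f hf hf5 hcomm
    obtain ⟨z, hz, rfl⟩ := Subgroup.mem_map.mp hf
    have hz5 : orderOf z = 5 := by
      rw [← Subgroup.orderOf_coe]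
      exact hf5
    have hzc : z ∈ Subgroup.centralizer ({g} : Set ↥H) := by
      rw [Subgroup.mem_centralizer_iff]
      intro w hw
      rw [Set.mem_singleton_iff] at hw
      rw [hw]
      apply Subtype.ext
      simp only [Subgroup.coe_mul]
      exact hcomm.symm
    have := Subgroup.orderOf_dvd_natCard _ hzc
    rw [hz5, hc] at this
    omega

end Cfsg.Agent.Helper9.M22Sub
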