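import Mathlib
import Cfsg.Prelude.Def_Sporadic_a
import Cfsg.Agent.Helper9.M22Sub.Graph

set_option autoImplicit false

/-!
The stabilizer of two points in the group of the length-24 code has no subgroup of order 7920 and
no subgroup of order 2112.
-/

namespace Cfsg.Agent.Helper9.M22Sub

open Cfsg Cfsg.Agent.Helper9.Golay

variable {p q : GolayPt} {H : Subgroup (Equiv.Perm GolayPt)}

/-- no point is joined to a point of its orbit under the Sylow 11-subgroup. -/
theorem bipartite (hpq : p ≠ q) (hH : H ≤ G2 p q) (hcard : Nat.card H = 7920)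
    {g : Equiv.Perm GolayPt} (hgH : g ∈ H) (hord : orderOf g = 11)
    {N : Subgroup (Equiv.Perm GolayPt)} (hNH : N ≤ H) (hNc : Nat.card N = 55)
    (hnorm : ∀ f ∈ N, ∃ k : ℤ, f * g * f⁻¹ = g ^ k)
    (hnc : ∀ f ∈ N, orderOf f = 5 → f * g ≠ g * f)
    {a c : GolayPt} (ha : a ∈ Om p q) (hadj : adj H a c) :
    c ∉ orbF (Subgroup.zpowers g) a := by
  intro hc
  have hgG : g ∈ G2 p q := hH hgH
  obtain ⟨Δ, hΔsub, hΔc, hΔ, -⟩ := exists_nbrs hpq hH hcard ha
  -- an element of order five of the normalizer fixing the point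
  have h1 := card_eq_orbF_mul N a
  rw [hNc] at h1
  have hsub : orbF N a ⊆ Om p q := by
    intro x hx
    obtain ⟨h, hh, rfl⟩ := mem_orbF.mp hx
    exact smul_mem_Om (hH (hNH hh)) ha
  have hle := Finset.card_le_card hsub
  rw [card_Om hpq] at hle
  have h11 := not_eleven_dvd_stab hpq (hNH.trans hH) ha
  have hm5 : Nat.card (N ⊓ St a : Subgroup (Equiv.Perm GolayPt)) = 5 := by
    generalize Nat.card (N ⊓ St a : Subgroup (Equiv.Perm GolayPt)) = m at h1 h11
    generalize (orbF N a).card = s at h1 hle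
    have hd : m ∣ 55 := ⟨s, by rw [h1, mul_comm]⟩
    have hm55 := Nat.le_of_dvd (by norm_num) hd
    interval_cases m <;> omega
  obtain ⟨f, hf, hf5⟩ := exists_order_five (K := N ⊓ St a) (by rw [hm5])
  have hfN : f ∈ N := (Subgroup.mem_inf.mp hf).1
  have hfH : f ∈ H := hNH hfN
  have hfa : f a = a := mem_St.mp (Subgroup.mem_inf.mp hf).2
  obtain ⟨k, hk⟩ := hnorm f hfN
  have hfg := hnc f hfN hf5
  -- the parametrization of the orbit
  let φ : ZMod 11 → GolayPt := fun j => (g ^ j.val) a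
  have hφ : ∀ m : ℤ, (g ^ m) a = φ (m : ZMod 11) := by
    intro m
    show (g ^ m) a = (g ^ ((m : ZMod 11)).val) a
    have e1 : (((m : ZMod 11).val : ℕ) : ℤ) = m % 11 := by
      rw [ZMod.val_intCast]
      rfl
    have e2 : g ^ ((m : ZMod 11)).val = g ^ m := by
      rw [← zpow_natCast, e1]
      have := zpow_mod_orderOf g m
      rw [hord] at this
      exact this
    rw [e2]
  have hφj : ∀ j : ZMod 11, φ j = (g ^ (j.val : ℤ)) a := by
    intro j
    rw [zpow_natCast]
  have hcast : ∀ j : ZMod 11, (((j.val : ℕ) : ℤ) : ZMod 11) = j := by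
    intro j
    rw [Int.cast_natCast, ZMod.natCast_zmod_val]
  -- conjugation by `f`
  have hconj : ∀ m : ℤ, f * g ^ m = g ^ (k * m) * f := by
    intro m
    have : f * g ^ m * f⁻¹ = g ^ (k * m) := by
      rw [← conj_zpow, hk, ← zpow_mul]
    rw [← this]
    group
  have hfφ : ∀ m : ℤ, f ((g ^ m) a) = (g ^ (k * m)) a := by
    intro m
    have := congrArg (fun σ : Equiv.Perm GolayPt => σ a) (hconj m)
    simp only [Equiv.Perm.coe_mul, Function.comp_apply, hfa] at this
    exact this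
  have hpow : ∀ n : ℕ, f ^ n * g * (f ^ n)⁻¹ = g ^ (k ^ n) := by
    intro n
    induction n with
    | zero => simp
    | succ n ih =>
      have e : f ^ (n + 1) * g * (f ^ (n + 1))⁻¹ = f * (f ^ n * g * (f ^ n)⁻¹) * f⁻¹ := by
        rw [pow_succ']
        group
      rw [e, ih, ← conj_zpow, hk, ← zpow_mul, pow_succ]
      congr 1
      ring
  have hf5' : f ^ 5 = 1 := by rw [← hf5]; exact pow_orderOf_eq_one f
  have hr5 : ((k : ZMod 11)) ^ 5 = 1 := by
    have h2 := hpow 5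
    rw [hf5', one_mul, inv_one, mul_one] at h2
    have h3 : g ^ (k ^ 5 - 1) = 1 := by
      rw [zpow_sub, zpow_one, ← h2, mul_inv_cancel]
    have h4 := (orderOf_dvd_iff_zpow_eq_one (x := g)).mpr h3
    rw [hord] at h4
    have h5 := (ZMod.intCast_zmod_eq_zero_iff_dvd (k ^ 5 - 1) 11).mpr (by exact_mod_cast h4)
    push_cast at h5
    exact sub_eq_zero.mp h5
  have hr1 : ((k : ZMod 11)) ≠ 1 := by
    intro hcon
    have h2 : ((k - 1 : ℤ) : ZMod 11) = 0 := by
      push_cast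
      rw [hcon, sub_self]
    have h3 := (ZMod.intCast_zmod_eq_zero_iff_dvd (k - 1) 11).mp h2
    have h4 : ((orderOf g : ℕ) : ℤ) ∣ k - 1 := by rw [hord]; exact_mod_cast h3
    have h5 := (orderOf_dvd_iff_zpow_eq_one (x := g)).mp h4
    rw [zpow_sub, zpow_one, mul_inv_eq_one] at h5
    apply hfg
    calc f * g = (f * g * f⁻¹) * f := by group
      _ = g ^ k * f := by rw [hk]
      _ = g * f := by rw [h5]
  -- the set of residues joined to the point
  classical
  let J : Finset (ZMod 11) := Finset.univ.filter (fun j => adj H a (φ j))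
  have hJ : ∀ j, j ∈ J ↔ adj H a (φ j) := by
    intro j
    simp [J]
  have h0 : (0 : ZMod 11) ∉ J := by
    rw [hJ]
    intro h
    have e : φ 0 = a := by
      show (g ^ (0 : ZMod 11).val) a = a
      rw [ZMod.val_zero, pow_zero, Equiv.Perm.one_apply]
    rw [e] at h
    have := hΔsub ((hΔ a).mp h)
    rw [Finset.mem_erase] at this
    exact this.1 rfl
  have hneg : ∀ j ∈ J, -j ∈ J := by
    intro j hj
    rw [hJ] at hj ⊢
    rw [hφj j] at hj
    have hmem : g ^ (-(j.val : ℤ)) ∈ H := H.zpow_mem hgH _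
    have h2 := adj_smul hmem hj
    rw [← Equiv.Perm.mul_apply, ← zpow_add, neg_add_cancel, zpow_zero, Equiv.Perm.one_apply] at h2
    have h3 := adj_symm h2
    rw [hφ] at h3
    rw [Int.cast_neg, hcast] at h3
    exact h3
  have hmul : ∀ j ∈ J, (k : ZMod 11) * j ∈ J := by
    intro j hj
    rw [hJ] at hj ⊢
    rw [hφj j] at hj
    have h2 := adj_smul hfH hj
    rw [hfa, hfφ, hφ, Int.cast_mul, hcast] at h2
    exact h2
  have hinj : Function.Injective φ := by
    intro i j hij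
    rw [hφj i, hφj j] at hij
    have h2 : (g ^ ((i.val : ℤ) - (j.val : ℤ))) a = a := by
      rw [sub_eq_neg_add, zpow_add, Equiv.Perm.mul_apply, hij, ← Equiv.Perm.mul_apply, ← zpow_add,
        neg_add_cancel, zpow_zero, Equiv.Perm.one_apply]
    have h3 := zpow_fix_imp hpq hgG hord ha _ h2
    have h4 := (ZMod.intCast_eq_intCast_iff_dvd_sub (j.val : ℤ) (i.val : ℤ) 11).mpr
      (by exact_mod_cast h3)
    rw [hcast, hcast] at h4
    exact h4.symm
  have hJcard : J.card ≤ 6 := by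
    rw [← hΔc, ← Finset.card_image_of_injective J hinj]
    apply Finset.card_le_card
    intro x hx
    obtain ⟨j, hj, rfl⟩ := Finset.mem_image.mp hx
    exact (hΔ _).mp ((hJ j).mp hj)
  have hne : J.Nonempty := by
    obtain ⟨h, hh, rfl⟩ := mem_orbF.mp hc
    obtain ⟨m, rfl⟩ := Subgroup.mem_zpowers_iff.mp hh
    refine ⟨(m : ZMod 11), ?_⟩
    rw [hJ, ← hφ]
    exact hadj
  have := zmod11_orbit J (k : ZMod 11) hr5 hr1 h0 hneg hmul hne
  omega

/-- there is no subgroup of order 7920. -/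
theorem no_sub_7920 (hpq : p ≠ q) (hH : H ≤ G2 p q) : Nat.card H ≠ 7920 := by
  intro hcard
  obtain ⟨g, hgH, hord, N, hNH, hNc, hnorm, hnc⟩ := exists_normalizer hpq hH hcard
  have hgG : g ∈ G2 p q := hH hgH
  have hbip : ∀ {a c : GolayPt}, a ∈ Om p q → adj H a c → c ∉ orbF (Subgroup.zpowers g) a :=
    fun ha hadj => bipartite hpq hH hcard hgH hord hNH hNc hnorm hnc ha hadj
  have hOmne : (Om p q).Nonempty := by
    rw [← Finset.card_pos, card_Om hpq]
    norm_num
  obtain ⟨a, ha⟩ := hOmne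
  obtain ⟨Δa, hΔasub, hΔac, hΔa, htrans⟩ := exists_nbrs hpq hH hcard ha
  obtain ⟨y, hy⟩ : Δa.Nonempty := by
    rw [← Finset.card_pos, hΔac]
    norm_num
  have hay : adj H a y := (hΔa y).mpr hy
  have hy' := Finset.mem_erase.mp (hΔasub hy)
  have hyorb : y ∉ orbF (Subgroup.zpowers g) a := hbip ha hay
  obtain ⟨Δy, hΔysub, hΔyc, hΔy, -⟩ := exists_nbrs hpq hH hcard hy'.2
  obtain ⟨x', hx'Δ, hx'a⟩ : ∃ x' ∈ Δy, x' ≠ a :=
    Finset.exists_mem_ne (by rw [hΔyc]; norm_num) a
  have hyx' : adj H y x' := (hΔy x').mpr hx'Δ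
  have hx'Om := (Finset.mem_erase.mp (hΔysub hx'Δ)).2
  have hx'orb : x' ∉ orbF (Subgroup.zpowers g) y := hbip hy'.2 hyx'
  have hx'a_orb : x' ∈ orbF (Subgroup.zpowers g) a :=
    (two_orbits hpq hgG hord ha hy'.2 hyorb x' hx'Om).resolve_right hx'orb
  have hnax' : x' ∉ Δa := fun h => hbip ha ((hΔa x').mpr h) hx'a_orb
  obtain ⟨z, hzorb, hzΔ⟩ : ∃ z ∈ orbF (Subgroup.zpowers g) y, z ∉ Δa :=
    Finset.exists_mem_notMem_of_card_lt_card (by
      rw [hΔac, card_orb_eleven hpq hgG hord hy'.2]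
      norm_num)
  have hzOm := orb_sub_Om hgG hy'.2 hzorb
  have hza : z ≠ a := by
    rintro rfl
    apply hyorb
    rw [orbF_eq_of_mem hzorb]
    exact self_mem_orbF _ y
  obtain ⟨h, hh, hhx⟩ := htrans x' (Finset.mem_erase.mpr ⟨hx'a, hx'Om⟩) hnax' z
    (Finset.mem_erase.mpr ⟨hza, hzOm⟩) hzΔ
  have hhH : h ∈ H := (Subgroup.mem_inf.mp hh).1
  have hha : h a = a := mem_St.mp (Subgroup.mem_inf.mp hh).2
  have h1 := adj_smul hhH hyx'
  rw [hhx] at h1
  have h2 := adj_smul hhH hay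
  rw [hha] at h2
  have h3 : h y ∉ orbF (Subgroup.zpowers g) a := hbip ha h2
  have hhyOm : h y ∈ Om p q := smul_mem_Om (hH hhH) hy'.2
  have h4 : h y ∈ orbF (Subgroup.zpowers g) y :=
    (two_orbits hpq hgG hord ha hy'.2 hyorb (h y) hhyOm).resolve_left h3
  have h5 : h y ∉ orbF (Subgroup.zpowers g) z := hbip hzOm (adj_symm h1)
  rw [orbF_eq_of_mem hzorb] at h5
  exact h5 h4

/-- there is no subgroup of order 2112. -/
theorem no_sub_2112 (hpq : p ≠ q) (hH : H ≤ G2 p q) : Nat.card H ≠ 2112 := by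
  intro hcard
  have hfin : Finite H := Nat.finite_of_card_ne_zero (by rw [hcard]; norm_num)
  obtain ⟨g, hg, c, j, m, hc, hc2, hj, hN, hcjm, hm⟩ :=
    sylow_eleven 2112 hcard (by norm_num) (by norm_num) (cent_dvd_sub hpq hH)
  have hj10 : j ≤ 10 := Nat.le_of_dvd (by norm_num) hj
  rcases hc2 with rfl | rfl <;> interval_cases j <;> omega

end Cfsg.Agent.Helper9.M22Sub
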